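import Cfsg.Agent.Lib.Comp.HSx.Base

set_option maxRecDepth 100000
set_option Elab.async false

namespace Cfsg.Lib.Comp.HSx

universe u

noncomputable def T1_R : List (List ℕ × ℕ) := [([3],1),
 ([4],1),
 ([1],2),
 ([3,4],1),
 ([1,3],2),
 ([1,4],2),
 ([1,4,2,3],1),
 ([5],1),
 ([1,5],1),
 ([3,5],2),
 ([4,5],3),
 ([3,4,5],2),
 ([1,3,1,4,1,5,4,2,3,5,3,1,4,5],0),
 ([6],1),
 ([3,6],1),
 ([1,6],2),
 ([5,6],2),
 ([4,6],3),
 ([1,4,5,4,2,5,6],1),
 ([7],1),
 ([5,7],1),
 ([1,7],2),
 ([3,7],2),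
 ([4,7],2),
 ([6,7],2),
 ([1,3,7,6],1),
 ([1,7,4,5],2),
 ([1,2],0)]

noncomputable def T1_n_1 : Net :=
 (Net.cons 12 (nat_lit 0x3c0)
 (Net.cons 6 (nat_lit 0xc020)
 (Net.cons 3 (nat_lit 0x184006)
 (Net.cons 1 (nat_lit 0x1040)
 (Net.cons 1 (nat_lit 0x410410)
 (Net.cons 1 (nat_lit 0x200008)
 (Net.cons 3 (nat_lit 0x180046)
 (Net.cons 6 (nat_lit 0xd000)
 (Net.cons 12 (nat_lit 0x3c0)
 Net.nil)))))))))

noncomputable def T1_n_3 : Net :=
 (Net.cons 12 (nat_lit 0xc00)
 (Net.cons 6 (nat_lit 0x1c020)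
 (Net.cons 3 (nat_lit 0x82004)
 (Net.cons 1 (nat_lit 0x201048)
 (Net.cons 1 (nat_lit 0x490010)
 (Net.cons 1 (nat_lit 0x200008)
 (Net.cons 3 (nat_lit 0x82106)
 (Net.cons 6 (nat_lit 0x1c020)
 (Net.cons 12 (nat_lit 0xc00)
 Net.nil)))))))))

noncomputable def T1_n_4 : Net :=
 (Net.cons 12 (nat_lit 0xc00)
 (Net.cons 6 (nat_lit 0x3000c)
 (Net.cons 3 (nat_lit 0x2080)
 (Net.cons 1 (nat_lit 0x1240)
 (Net.cons 1 (nat_lit 0x412092)
 (Net.cons 1 (nat_lit 0x8040)
 (Net.cons 3 (nat_lit 0x5086)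
 (Net.cons 6 (nat_lit 0x3000c)
 (Net.cons 12 (nat_lit 0xc00)
 Net.nil)))))))))

noncomputable def T1_n_5 : Net :=
 (Net.cons 12 (nat_lit 0xe0)
 (Net.cons 6 (nat_lit 0x8030)
 (Net.cons 3 (nat_lit 0x80186)
 (Net.cons 1 (nat_lit 0x208048)
 (Net.cons 1 (nat_lit 0x492)
 (Net.cons 1 (nat_lit 0x208)
 (Net.cons 3 (nat_lit 0x80046)
 (Net.cons 6 (nat_lit 0x9030)
 (Net.cons 12 (nat_lit 0xe0)
 Net.nil)))))))))

noncomputable def T1_n_6 : Net :=
 (Net.cons 12 (nat_lit 0xc00)
 (Net.cons 3 (nat_lit 0x82004)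
 (Net.cons 1 (nat_lit 0x249008)
 (Net.cons 1 (nat_lit 0x82010)
 (Net.cons 1 (nat_lit 0x41008)
 (Net.cons 3 (nat_lit 0x82006)
 (Net.cons 6 (nat_lit 0x30000)
 (Net.cons 12 (nat_lit 0xc00)
 Net.nil))))))))

noncomputable def T1_n_7 : Net :=
 (Net.cons 12 (nat_lit 0x880)
 (Net.cons 6 (nat_lit 0x8000)
 (Net.cons 3 (nat_lit 0x184184)
 (Net.cons 1 (nat_lit 0x241049)
 (Net.cons 1 (nat_lit 0x82410)
 (Net.cons 1 (nat_lit 0x41008)
 (Net.cons 3 (nat_lit 0x184184)
 (Net.cons 6 (nat_lit 0x2d000)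
 (Net.cons 12 (nat_lit 0x880)
 Net.nil)))))))))

noncomputable def T1_n : List Net := [Net.nil,
 T1_n_1,
 Net.rev T1_n_1,
 T1_n_3,
 T1_n_4,
 T1_n_5,
 T1_n_6,
 T1_n_7]

theorem T1_n_ok : NetsOK 24 T1_n := netsOK_of (by decide +kernel)

theorem T1_n_rel : Rels (gp T1_n) T1_R := rels_of_relsB (k := 5) T1_n_ok (by norm_num) (by decide +kernel)

noncomputable def T1_b0h : ℕ := (nat_lit 0x1000013000012000400002d00002d000100000c000006000000002400000c0007000030000024000400003000000c000500001b000030000100001e000030000200000a000030000700002d00002d000500001800002d000200000900002d000400000f00001b000200000f000007000000002600000f000400000a0000280007000007000028000400001b0000260001000007000026000400000b0000240002000006000024000100000b00001b000200000b000005000000000b00001c000100000a00001e000700001e00001e000500000500001e000200001b00001c000100000500001c000200000500001b000100000400001800070000180000180006000001000018)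

noncomputable def T1_b0c : List ℕ := [(nat_lit 0xa00000800000e00000900005900007f00005d00005700000a00000800000e01130b00005b00000b00000600000400000800007b00000a00000800000200000600000a00000600005500940d00003100007501230200006f00007100003700000e00006f00007100f40600003300000e00002100001f00006500e60500000a00000800000a00000800000a000051000069004a0700006300000a00002d003e03000063000021000a0200000000005b00000700005900dc0300005700000a000009003e0300000000003d00004900060200003900004901270200000a00000800000e00000200000a00000800000e00002b00000a00004500004300003901120c00004300000800000e00000800000e00f20500000000003b00000800000400000800000d00200500000000003300000800000200000800002b00220500000000001500002701220200001100002701270200001300001900002300000a003c0400001b00000800000e00000200000a00000800000e00000200000a00000800000e01120b00001b00000e00001900dc0300000000001300000d000c0200000000000000000300000e00000600000200000c00000e00000601020700000300000e00000c00000e00000100fc05000000000021)]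

theorem T1_fin : finB 24 T1_n [1,2,3,4,5,6,7] 22 (runH 24 T1_n (tbk 5 4 prs5 T1_n 32) iv T1_R [] ([1,2,3,4,5,6].map fun x => [x]) 0 [(fun t => look T1_b0h 64 t, T1_b0c)]
  (apd [1,5,9,13,17,21,0,4,12,28,52,76,80,88,92,108,8,32,36,80,84,88,108,28,76,2,8,32,84,108,8,20,28,40,80,84,92,104,108,4,8,36,44,56,76,108,16,20,104,4,20,32,100,108,16,24,52,60,64,0]
 [12,52,72,52,56,60,64,68,88,96,100,108,8,24,32,92])
  (defsH 24 T1_n (ones 216) [7,1,2,3,4,5,6,7,1] (Nat.shiftLeft 1 0) 0)) = true := by decide +kernel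

theorem T1_idx : Idx.{u} iv (T1_R ++ []) ([1,2,3,4,5,6].map fun x => [x]) [1,2,3,4,5,6,7] 22 :=
  Reach.idx T1_n_ok (reach_runH T1_n_ok (tbk_eq tr5 (by norm_num) (by norm_num) (by norm_num) T1_n_ok) T1_n_rel (reach_defsH T1_n_ok _ _ _ _ _ _) _ _) T1_fin (by norm_num)

end Cfsg.Lib.Comp.HSx
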