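import Cfsg.Agent.Lib.Comp.HSx.Base

set_option maxRecDepth 100000
set_option Elab.async false

namespace Cfsg.Lib.Comp.HSx

universe u

noncomputable def T3_R : List (List ℕ × ℕ) := [([3],1),
 ([4],1),
 ([1],2),
 ([3,4],1),
 ([1,3],2),
 ([1,4],2),
 ([1,4,2,3],1),
 ([5],1),
 ([1,5],1),
 ([3,5],2),
 ([4,5],3),
 ([3,4,5],2),
 ([1,3,1,4,1,5,4,2,3,5,3,1,4,5],0),
 ([1,2],0)]

noncomputable def T3_n_1 : Net :=
 (Net.cons 10 (nat_lit 0x28)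
 (Net.cons 5 (nat_lit 0x5018)
 (Net.cons 1 (nat_lit 0x280a4)
 (Net.cons 1 (nat_lit 0x12948)
 (Net.cons 1 (nat_lit 0x14a4)
 (Net.cons 1 (nat_lit 0x2940)
 (Net.cons 1 (nat_lit 0x1020)
 (Net.cons 5 (nat_lit 0x3404)
 (Net.cons 10 (nat_lit 0x84)
 Net.nil)))))))))

noncomputable def T3_n_3 : Net :=
 (Net.cons 10 (nat_lit 0x2c8)
 (Net.cons 5 (nat_lit 0x6010)
 (Net.cons 1 (nat_lit 0x214a0)
 (Net.cons 1 (nat_lit 0x5014a)
 (Net.cons 1 (nat_lit 0x200a0)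
 (Net.cons 1 (nat_lit 0x140)
 (Net.cons 1 (nat_lit 0xa0)
 (Net.cons 5 (nat_lit 0x6010)
 (Net.cons 10 (nat_lit 0x2c8)
 Net.nil)))))))))

noncomputable def T3_n_4 : Net :=
 (Net.cons 10 (nat_lit 0x274)
 (Net.cons 5 (nat_lit 0x810)
 (Net.cons 1 (nat_lit 0x8484)
 (Net.cons 1 (nat_lit 0x294a)
 (Net.cons 1 (nat_lit 0x1484)
 (Net.cons 1 (nat_lit 0x2940)
 (Net.cons 1 (nat_lit 0x400)
 (Net.cons 5 (nat_lit 0x2810)
 (Net.cons 10 (nat_lit 0x274)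
 Net.nil)))))))))

noncomputable def T3_n_5 : Net :=
 (Net.cons 10 (nat_lit 0x80)
 (Net.cons 5 (nat_lit 0x5010)
 (Net.cons 1 (nat_lit 0x280a1)
 (Net.cons 1 (nat_lit 0x12948)
 (Net.cons 1 (nat_lit 0x9480)
 (Net.cons 1 (nat_lit 0x2940)
 (Net.cons 1 (nat_lit 0x1020)
 (Net.cons 5 (nat_lit 0x6410)
 (Net.cons 10 (nat_lit 0x80)
 Net.nil)))))))))

noncomputable def T3_n : List Net := [Net.nil,
 T3_n_1,
 Net.rev T3_n_1,
 T3_n_3,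
 T3_n_4,
 T3_n_5]

theorem T3_n_ok : NetsOK 20 T3_n := netsOK_of (by decide +kernel)

theorem T3_n_rel : Rels (gp T3_n) T3_R := rels_of_relsB (k := 5) T3_n_ok (by norm_num) (by decide +kernel)

theorem T3_fin : finB 20 T3_n [1,2,3,4,5] 20 (runH 20 T3_n (fun x p => ptInv (nth Net.nil T3_n x) p) iv T3_R [] ([1,2,3,4].map fun x => [x]) 0 []
  [1,5,9,13,0,4,12,28,32,36,40,44,52,8,16,20,24,32,52,0,4,8,12,16,20,24,28,52,4,48,16,44]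
  (defsH 20 T3_n (ones 180) [5,3,4,5,1,2,3,4] (Nat.shiftLeft 1 0) 0)) = true := by decide +kernel

theorem T3_idx : Idx.{u} iv (T3_R ++ []) ([1,2,3,4].map fun x => [x]) [1,2,3,4,5] 20 :=
  Reach.idx T3_n_ok (reach_runH T3_n_ok (fun x p _ => ptInv_gp T3_n_ok x p) T3_n_rel (reach_defsH T3_n_ok _ _ _ _ _ _) _ _) T3_fin (by norm_num)

end Cfsg.Lib.Comp.HSx
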