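import Cfsg.Agent.Lib.Comp.HSx.Perm
import Cfsg.Agent.Lib.Comp.PermGrp
import Cfsg.Agent.Lib.Comp.Bridge2
import Cfsg.Agent.Lib.Comp.HSx.T0
import Cfsg.Agent.Lib.Comp.HSx.T1
import Cfsg.Agent.Lib.Comp.HSx.T2
import Cfsg.Agent.Lib.Comp.HSx.T3
import Cfsg.Agent.Lib.Comp.HSx.T4
import Cfsg.Agent.Lib.Comp.Out
import Cfsg.Agent.Lib.Leech.PermHS

set_option maxRecDepth 100000
set_option Elab.async false

namespace Cfsg.Lib.Comp.HSx

universe u

theorem T4_ord : Ord.{u} iv T4_R [1,2,3,4] 48 :=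
  (T4_idx.ord_base).of_cons (cons_of_subset (by decide +kernel))

theorem T3_ord : Ord.{u} iv T3_R [1,2,3,4,5] 960 :=
  (T3_idx.ord_step T4_ord).of_cons (cons_of_subset (by decide +kernel))

theorem T2_ord : Ord.{u} iv T2_R [1,2,3,4,5,6] 20160 :=
  (T2_idx.ord_step T3_ord).of_cons (cons_of_subset (by decide +kernel))

theorem T1_ord : Ord.{u} iv T1_R [1,2,3,4,5,6,7] 443520 :=
  (T1_idx.ord_step T2_ord).of_cons (cons_of_subset (by decide +kernel))

theorem T0_ord : Ord.{u} iv T0_R [1,2,3,4,5,6,7,8] 44352000 :=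
  (T0_idx.ord_step T1_ord).of_cons (cons_of_subset (by decide +kernel))

theorem ord : Ord.{u} iv R L 44352000 := T0_ord.of_cons (cons_of_subset (by decide +kernel))

theorem card : Nat.card (cl (gp nets) L) = 44352000 := card_of_ord ord nets_iv nets_rel lb

noncomputable def lpi : Net :=
 (Net.cons 64 (nat_lit 0xf20de29be630d7e8)
 (Net.cons 32 (nat_lit 0x33681b240000000052da36f8)
 (Net.cons 16 (nat_lit 0xe28000001ed00000512a00009878)
 (Net.cons 8 (nat_lit 0x4000ac002200240046001800d20024)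
 (Net.cons 4 (nat_lit 0x40a0000040a00080800040c02020600)
 (Net.cons 2 (nat_lit 0x200022202200002000020200002)
 (Net.cons 1 (nat_lit 0x1051111444144104104144144154004)
 (Net.cons 2 (nat_lit 0x1011122021012031020132301200312)
 (Net.cons 4 (nat_lit 0x50a0703040b08030802060c000a0204)
 (Net.cons 8 (nat_lit 0x4100bd00a00020004c006300f60060)
 (Net.cons 16 (nat_lit 0x2a400007e41000044ea0000185c)
 (Net.cons 32 (nat_lit 0xe364f9b3000000005e4a3bb2)
 (Net.cons 64 (nat_lit 0xf20de299e502dfa0)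
 Net.nil)))))))))))))

theorem lpi_ok : lpi.ok 128 := ok_of_netOK (by decide +kernel)

theorem l_m1 : gp nets 1 ∈ (cl (gp Leech.PHS.nets) Leech.PHS.L).map (MulAut.conj lpi.perm).toMonoidHom :=
  mem_conj_of_eqB (k := 7) (w := [77,73,75,68,70,74]) Leech.PHS.nets_ok (by norm_num) lpi_ok (nets_ok 1)
    (fun _ h => cl_eq_of_slpB Leech.PHS.nets_ok (by norm_num) Leech.PHS.slp_ok ▸ mem_cl h) (by decide +kernel)

theorem l_m2 : gp nets 2 ∈ (cl (gp Leech.PHS.nets) Leech.PHS.L).map (MulAut.conj lpi.perm).toMonoidHom :=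
  mem_conj_of_eqB (k := 7) (w := [72,76,68,70]) Leech.PHS.nets_ok (by norm_num) lpi_ok (nets_ok 2)
    (fun _ h => cl_eq_of_slpB Leech.PHS.nets_ok (by norm_num) Leech.PHS.slp_ok ▸ mem_cl h) (by decide +kernel)

theorem l_m3 : gp nets 3 ∈ (cl (gp Leech.PHS.nets) Leech.PHS.L).map (MulAut.conj lpi.perm).toMonoidHom :=
  mem_conj_of_eqB (k := 7) (w := [76,72,68,70]) Leech.PHS.nets_ok (by norm_num) lpi_ok (nets_ok 3)
    (fun _ h => cl_eq_of_slpB Leech.PHS.nets_ok (by norm_num) Leech.PHS.slp_ok ▸ mem_cl h) (by decide +kernel)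

theorem l_m4 : gp nets 4 ∈ (cl (gp Leech.PHS.nets) Leech.PHS.L).map (MulAut.conj lpi.perm).toMonoidHom :=
  mem_conj_of_eqB (k := 7) (w := [76,72,72,77]) Leech.PHS.nets_ok (by norm_num) lpi_ok (nets_ok 4)
    (fun _ h => cl_eq_of_slpB Leech.PHS.nets_ok (by norm_num) Leech.PHS.slp_ok ▸ mem_cl h) (by decide +kernel)

theorem l_m5 : gp nets 5 ∈ (cl (gp Leech.PHS.nets) Leech.PHS.L).map (MulAut.conj lpi.perm).toMonoidHom :=
  mem_conj_of_eqB (k := 7) (w := [72,69,69,65,70,66]) Leech.PHS.nets_ok (by norm_num) lpi_ok (nets_ok 5)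
    (fun _ h => cl_eq_of_slpB Leech.PHS.nets_ok (by norm_num) Leech.PHS.slp_ok ▸ mem_cl h) (by decide +kernel)

theorem l_m6 : gp nets 6 ∈ (cl (gp Leech.PHS.nets) Leech.PHS.L).map (MulAut.conj lpi.perm).toMonoidHom :=
  mem_conj_of_eqB (k := 7) (w := [77,72,76,75,69,72,68]) Leech.PHS.nets_ok (by norm_num) lpi_ok (nets_ok 6)
    (fun _ h => cl_eq_of_slpB Leech.PHS.nets_ok (by norm_num) Leech.PHS.slp_ok ▸ mem_cl h) (by decide +kernel)

theorem l_m7 : gp nets 7 ∈ (cl (gp Leech.PHS.nets) Leech.PHS.L).map (MulAut.conj lpi.perm).toMonoidHom :=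
  mem_conj_of_eqB (k := 7) (w := [77,72,72,74,68,75,65,74]) Leech.PHS.nets_ok (by norm_num) lpi_ok (nets_ok 7)
    (fun _ h => cl_eq_of_slpB Leech.PHS.nets_ok (by norm_num) Leech.PHS.slp_ok ▸ mem_cl h) (by decide +kernel)

theorem l_m8 : gp nets 8 ∈ (cl (gp Leech.PHS.nets) Leech.PHS.L).map (MulAut.conj lpi.perm).toMonoidHom :=
  mem_conj_of_eqB (k := 7) (w := [76,72,75,68,73,70,64,67,64,1,71,66]) Leech.PHS.nets_ok (by norm_num) lpi_ok (nets_ok 8)
    (fun _ h => cl_eq_of_slpB Leech.PHS.nets_ok (by norm_num) Leech.PHS.slp_ok ▸ mem_cl h) (by decide +kernel)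

theorem perm : Nonempty (Spor.HS ≃* cl (gp nets) L) := by
  obtain ⟨e⟩ := Leech.PHS.perm
  have := Leech.PHS.nets_ok.finite Leech.PHS.L
  obtain ⟨φ, h1, h2⟩ := relabel e lpi.perm (G' := cl (gp nets) L)
    (cl_le.2 (by unfold L; simp only [List.forall_mem_cons]; exact ⟨l_m1, l_m2, l_m3, l_m4, l_m5, l_m6, l_m7, l_m8, by simp⟩)) (Leech.PHS.card.trans_le lb)
  exact ⟨(MonoidHom.ofInjective h1).trans (MulEquiv.subgroupCongr h2)⟩

end Cfsg.Lib.Comp.HSx
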