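import Cfsg.Agent.Lib.Comp.HSx.Base

set_option maxRecDepth 100000
set_option Elab.async false

namespace Cfsg.Lib.Comp.HSx

universe u

noncomputable def MuH3_0_R : List (List ℕ × ℕ) := [([3],1),
 ([4],1),
 ([1],2),
 ([3,4],1),
 ([1,3],2),
 ([1,4],2),
 ([1,4,2,3],1),
 ([8],1),
 ([3,8],1),
 ([4,8],2),
 ([1,8],3),
 ([1,4,8],2),
 ([1,2],0)]

noncomputable def MuH3_0_n_1 : Net :=
 (Net.cons 2 (nat_lit 0x22)
 (Net.cons 1 (nat_lit 0x44)
 (Net.cons 2 (nat_lit 0x30)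
 Net.nil)))

noncomputable def MuH3_0_n_3 : Net :=
 (Net.cons 1 (nat_lit 0x55)
 Net.nil)

noncomputable def MuH3_0_n_4 : Net :=
 (Net.cons 1 (nat_lit 0x50)
 (Net.cons 2 (nat_lit 0x30)
 Net.nil))

noncomputable def MuH3_0_n_8 : Net :=
 (Net.cons 4 (nat_lit 0xc)
 (Net.cons 2 (nat_lit 0x30)
 (Net.cons 4 (nat_lit 0xc)
 Net.nil)))

noncomputable def MuH3_0_n : List Net := [Net.nil,
 MuH3_0_n_1,
 Net.rev MuH3_0_n_1,
 MuH3_0_n_3,
 MuH3_0_n_4,
 Net.nil,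
 Net.nil,
 Net.nil,
 MuH3_0_n_8]

theorem MuH3_0_n_ok : NetsOK 8 MuH3_0_n := netsOK_of (by decide +kernel)

theorem MuH3_0_n_rel : Rels (gp MuH3_0_n) MuH3_0_R := rels_of_relsB (k := 3) MuH3_0_n_ok (by norm_num) (by decide +kernel)

noncomputable def MuH3_0_b0h : ℕ := (nat_lit 0x10000060000040000000008000006000400000500000800080000060000080002000004000008)

noncomputable def MuH3_0_b0c : List ℕ := [(nat_lit 0x100000d005f0200000500000b000010000008000010000009004206000003000010000008000002000010000008000002000010005608000003000010000002000010000002000010000002004e07000000000005)]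

theorem MuH3_0_fin : finB 8 MuH3_0_n [1,2,3,4,8] 8 (runH 8 MuH3_0_n (tbk 3 4 prs3 MuH3_0_n 8) iv MuH3_0_R [] ([1,2,4,8].map fun x => [x]) 0 [(fun t => look MuH3_0_b0h 64 t, MuH3_0_b0c)]
  [1,5,9,13,0,12,28,32,48,8,16,24,32,48,0,12,2,8,16,40,44,48,4,12,32]
  (defsH 8 MuH3_0_n (ones 72) [3,1,2,8,1,3] (Nat.shiftLeft 1 0) 0)) = true := by decide +kernel

theorem MuH3_0_idx : Idx.{u} iv (MuH3_0_R ++ []) ([1,2,4,8].map fun x => [x]) [1,2,3,4,8] 8 :=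
  Reach.idx MuH3_0_n_ok (reach_runH MuH3_0_n_ok (tbk_eq tr3 (by norm_num) (by norm_num) (by norm_num) MuH3_0_n_ok) MuH3_0_n_rel (reach_defsH MuH3_0_n_ok _ _ _ _ _ _) _ _) MuH3_0_fin (by norm_num)

end Cfsg.Lib.Comp.HSx
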