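import Cfsg.Agent.Lib.Comp.HSx.Base

set_option maxRecDepth 100000
set_option Elab.async false

namespace Cfsg.Lib.Comp.HSx

universe u

noncomputable def MuH3_1_R : List (List ℕ × ℕ) := [([4],1),
 ([1],2),
 ([1,4],2),
 ([8],1),
 ([4,8],2),
 ([1,8],3),
 ([1,4,8],2),
 ([1,2],0)]

noncomputable def MuH3_1_n_1 : Net :=
 (Net.cons 2 (nat_lit 0x2)
 (Net.cons 1 (nat_lit 0x14)
 (Net.cons 2 (nat_lit 0x10)
 Net.nil)))

noncomputable def MuH3_1_n_4 : Net :=
 (Net.cons 1 (nat_lit 0x5)
 Net.nil)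

noncomputable def MuH3_1_n_8 : Net :=
 (Net.cons 4 (nat_lit 0x2)
 (Net.cons 1 (nat_lit 0x10)
 (Net.cons 2 (nat_lit 0x2)
 (Net.cons 4 (nat_lit 0x2)
 Net.nil))))

noncomputable def MuH3_1_n : List Net := [Net.nil,
 MuH3_1_n_1,
 Net.rev MuH3_1_n_1,
 Net.nil,
 MuH3_1_n_4,
 Net.nil,
 Net.nil,
 Net.nil,
 MuH3_1_n_8]

theorem MuH3_1_n_ok : NetsOK 8 MuH3_1_n := netsOK_of (by decide +kernel)

theorem MuH3_1_n_rel : Rels (gp MuH3_1_n) MuH3_1_R := rels_of_relsB (k := 3) MuH3_1_n_ok (by norm_num) (by decide +kernel)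

noncomputable def MuH3_1_b0h : ℕ := (nat_lit 0x80000020000020000000008000002000000000b000003000200000800000b0008000006000006000200000900000d000400000600000d000400000800000b000800000500000b000400000500000900080000030000090008000002000008)

noncomputable def MuH3_1_b0c : List ℕ := [(nat_lit 0x1000029001302000004000027000023003203000008000001000021000013000003000004000008000001000021002c0900000f00000400001f00000400001000000400000100240700000400000800001000000400000800000500001900001700290800001700000400000800000400000900100500000000000f00000900000700000800000100160500000000000700000400000800001000000400000800001000000400300800000000000000000c)]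

theorem MuH3_1_fin : finB 8 MuH3_1_n [1,2,4,8] 7 (runH 8 MuH3_1_n (tbk 3 4 prs3 MuH3_1_n 8) iv MuH3_1_R [] ([1,2,8].map fun x => [x]) 0 [(fun t => look MuH3_1_b0h 64 t, MuH3_1_b0c)]
  [1,5,9,0,12,16,28,4,8,28,0,2,20,24,8,12]
  (defsH 8 MuH3_1_n (ones 72) [4,8,1,2] (Nat.shiftLeft 1 0) 0)) = true := by decide +kernel

theorem MuH3_1_idx : Idx.{u} iv (MuH3_1_R ++ []) ([1,2,8].map fun x => [x]) [1,2,4,8] 7 :=
  Reach.idx MuH3_1_n_ok (reach_runH MuH3_1_n_ok (tbk_eq tr3 (by norm_num) (by norm_num) (by norm_num) MuH3_1_n_ok) MuH3_1_n_rel (reach_defsH MuH3_1_n_ok _ _ _ _ _ _) _ _) MuH3_1_fin (by norm_num)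

end Cfsg.Lib.Comp.HSx
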