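import Cfsg.Agent.Lib.Comp.HSx.Base

set_option maxRecDepth 100000
set_option Elab.async false

namespace Cfsg.Lib.Comp.HSx

universe u

noncomputable def MuH3_2_R : List (List ℕ × ℕ) := [([1],2),
 ([8],1),
 ([1,8],3),
 ([1,2],0)]

noncomputable def MuH3_2_n_1 : Net :=
 (Net.cons 2 (nat_lit 0x2)
 (Net.cons 1 (nat_lit 0x14)
 (Net.cons 2 (nat_lit 0x10)
 Net.nil)))

noncomputable def MuH3_2_n_8 : Net :=
 (Net.cons 4 (nat_lit 0xc)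
 (Net.cons 1 (nat_lit 0x5)
 (Net.cons 2 (nat_lit 0x30)
 (Net.cons 4 (nat_lit 0xc)
 Net.nil))))

noncomputable def MuH3_2_n : List Net := [Net.nil,
 MuH3_2_n_1,
 Net.rev MuH3_2_n_1,
 Net.nil,
 Net.nil,
 Net.nil,
 Net.nil,
 Net.nil,
 MuH3_2_n_8]

theorem MuH3_2_n_ok : NetsOK 8 MuH3_2_n := netsOK_of (by decide +kernel)

theorem MuH3_2_n_rel : Rels (gp MuH3_2_n) MuH3_2_R := rels_of_relsB (k := 3) MuH3_2_n_ok (by norm_num) (by decide +kernel)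

theorem MuH3_2_fin : finB 8 MuH3_2_n [1,2,8] 8 (runH 8 MuH3_2_n (fun x p => ptInv (nth Net.nil MuH3_2_n x) p) iv MuH3_2_R [] ([1,2].map fun x => [x]) 0 []
  [1,5,4,12,0,8,12,0,8,12]
  (defsH 8 MuH3_2_n (ones 72) [8,1,2,8,1,8] (Nat.shiftLeft 1 0) 0)) = true := by decide +kernel

theorem MuH3_2_idx : Idx.{u} iv (MuH3_2_R ++ []) ([1,2].map fun x => [x]) [1,2,8] 8 :=
  Reach.idx MuH3_2_n_ok (reach_runH MuH3_2_n_ok (fun x p _ => ptInv_gp MuH3_2_n_ok x p) MuH3_2_n_rel (reach_defsH MuH3_2_n_ok _ _ _ _ _ _) _ _) MuH3_2_fin (by norm_num)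

end Cfsg.Lib.Comp.HSx
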