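import Cfsg.Agent.Lib.Comp.HSx.MuH0_0
import Cfsg.Agent.Lib.Comp.HSx.MuH0_1
import Cfsg.Agent.Lib.Comp.HSx.MuH1_0
import Cfsg.Agent.Lib.Comp.HSx.MuH1_1
import Cfsg.Agent.Lib.Comp.HSx.MuH1_2
import Cfsg.Agent.Lib.Comp.HSx.MuH2_0
import Cfsg.Agent.Lib.Comp.HSx.MuH2_1
import Cfsg.Agent.Lib.Comp.HSx.MuH2_2
import Cfsg.Agent.Lib.Comp.HSx.MuH3_0
import Cfsg.Agent.Lib.Comp.HSx.MuH3_1
import Cfsg.Agent.Lib.Comp.HSx.MuH3_2
import Cfsg.Agent.Lib.Comp.HSx.MuH3_3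
import Cfsg.Agent.Lib.Comp.HSx.Mu0
import Cfsg.Agent.Lib.Comp.HSx.Main
import Cfsg.Agent.Lib.Comp.Cover

set_option maxRecDepth 100000
set_option Elab.async false

namespace Cfsg.Lib.Comp.HSx

universe u

theorem MuH0_1_ord : Ord.{u} iv MuH0_1_R [1,2] 3 :=
  (MuH0_1_idx.ord_base).of_cons (cons_of_subset (by decide +kernel))

theorem MuH0_0_ord : Ord.{u} iv MuH0_0_R [1,2,3] 12 :=
  (MuH0_0_idx.ord_step MuH0_1_ord).of_cons (cons_of_subset (by decide +kernel))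

noncomputable def MuH0_lb_n_1 : Net :=
 (Net.cons 1 (nat_lit 0x1)
 (Net.cons 2 (nat_lit 0x1)
 Net.nil))

noncomputable def MuH0_lb_n_3 : Net :=
 (Net.cons 2 (nat_lit 0x3)
 Net.nil)

noncomputable def MuH0_lb_n_64 : Net :=
 (Net.cons 1 (nat_lit 0x4)
 (Net.cons 2 (nat_lit 0x2)
 Net.nil))

noncomputable def MuH0_lb_n : List Net := (apd [Net.nil,
 MuH0_lb_n_1,
 Net.rev MuH0_lb_n_1,
 MuH0_lb_n_3,
 Net.nil,
 Net.nil,
 Net.nil,
 Net.nil,
 Net.nil,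
 Net.nil,
 Net.nil,
 Net.nil,
 Net.nil,
 Net.nil,
 Net.nil,
 Net.nil,
 Net.nil,
 Net.nil,
 Net.nil,
 Net.nil,
 Net.nil,
 Net.nil,
 Net.nil,
 Net.nil,
 Net.nil,
 Net.nil,
 Net.nil,
 Net.nil,
 Net.nil,
 Net.nil,
 Net.nil,
 Net.nil,
 Net.nil,
 Net.nil,
 Net.nil,
 Net.nil,
 Net.nil,
 Net.nil,
 Net.nil,
 Net.nil]
 [Net.nil,
 Net.nil,
 Net.nil,
 Net.nil,
 Net.nil,
 Net.nil,
 Net.nil,
 Net.nil,
 Net.nil,
 Net.nil,
 Net.nil,
 Net.nil,
 Net.nil,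
 Net.nil,
 Net.nil,
 Net.nil,
 Net.nil,
 Net.nil,
 Net.nil,
 Net.nil,
 Net.nil,
 Net.nil,
 Net.nil,
 Net.nil,
 MuH0_lb_n_64,
 Net.rev MuH0_lb_n_64])

theorem MuH0_lb_n_ok : NetsOK 4 MuH0_lb_n := netsOK_of (by decide +kernel)

theorem MuH0_lb : 12 ≤ Nat.card (cl (gp nets) [1,2,3]) :=
  lb_of_itwB (k := 2) (n := 4) nets_ok MuH0_lb_n_ok (by norm_num) (by norm_num) (tbA_pt nets_ok) (tbA_pt MuH0_lb_n_ok) (φ := look2 (nat_lit 0x10000110000c00008) 20 64) (by decide +kernel) (by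
    rw [← cl_eq_of_slpB (k := 2) (D := [(64,[3,1]),
 (65,[2,3])]) MuH0_lb_n_ok (by norm_num) (by decide +kernel)]
    exact lb_of_chainB MuH0_lb_n_ok (C := [([64,65],[1,1,3],0,0,4),
 ([],[64,64],1,1,3)]) (by decide +kernel))

theorem MuH1_2_ord : Ord.{u} iv MuH1_2_R [1,2] 3 :=
  (MuH1_2_idx.ord_base).of_cons (cons_of_subset (by decide +kernel))

theorem MuH1_1_ord : Ord.{u} iv MuH1_1_R [1,2,3] 12 :=
  (MuH1_1_idx.ord_step MuH1_2_ord).of_cons (cons_of_subset (by decide +kernel))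

theorem MuH1_0_ord : Ord.{u} iv MuH1_0_R [1,2,3,5] 60 :=
  (MuH1_0_idx.ord_step MuH1_1_ord).of_cons (cons_of_subset (by decide +kernel))

noncomputable def MuH1_lb_n_1 : Net :=
 (Net.cons 1 (nat_lit 0x8)
 (Net.cons 1 (nat_lit 0x4)
 Net.nil))

noncomputable def MuH1_lb_n_3 : Net :=
 (Net.cons 1 (nat_lit 0xa)
 Net.nil)

noncomputable def MuH1_lb_n_5 : Net :=
 (Net.cons 1 (nat_lit 0x1)
 (Net.cons 1 (nat_lit 0x8)
 Net.nil))

noncomputable def MuH1_lb_n : List Net := [Net.nil,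
 MuH1_lb_n_1,
 Net.rev MuH1_lb_n_1,
 MuH1_lb_n_3,
 Net.nil,
 MuH1_lb_n_5]

theorem MuH1_lb_n_ok : NetsOK 5 MuH1_lb_n := netsOK_of (by decide +kernel)

theorem MuH1_lb : 60 ≤ Nat.card (cl (gp nets) [1,2,3,5]) :=
  lb_of_itwB (k := 3) (n := 5) nets_ok MuH1_lb_n_ok (by norm_num) (by norm_num) (tbA_pt nets_ok) (tbA_pt MuH1_lb_n_ok) (φ := look2 (nat_lit 0x8000110000c0001000003) 20 64) (by decide +kernel) (by
    rw [← cl_eq_of_slpB (k := 3) (D := []) MuH1_lb_n_ok (by norm_num) (by decide +kernel)]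
    exact lb_of_chainB MuH1_lb_n_ok (C := [([1,2,3],[5,3,1,1],0,0,5),
 ([1,2],[3,1,1],1,1,4),
 ([],[1,1],2,2,3)]) (by decide +kernel))

theorem MuH2_2_ord : Ord.{u} iv MuH2_2_R [1,2] 3 :=
  (MuH2_2_idx.ord_base).of_cons (cons_of_subset (by decide +kernel))

theorem MuH2_1_ord : Ord.{u} iv MuH2_1_R [1,2,8] 24 :=
  (MuH2_1_idx.ord_step MuH2_2_ord).of_cons (cons_of_subset (by decide +kernel))

theorem MuH2_0_ord : Ord.{u} iv MuH2_0_R [1,2,4,8] 168 :=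
  (MuH2_0_idx.ord_step MuH2_1_ord).of_cons (cons_of_subset (by decide +kernel))

noncomputable def MuH2_lb_n_1 : Net :=
 (Net.cons 2 (nat_lit 0x2)
 (Net.cons 1 (nat_lit 0x14)
 (Net.cons 2 (nat_lit 0x10)
 Net.nil)))

noncomputable def MuH2_lb_n_4 : Net :=
 (Net.cons 4 (nat_lit 0x4)
 (Net.cons 2 (nat_lit 0x2)
 (Net.cons 1 (nat_lit 0x4)
 (Net.cons 2 (nat_lit 0x12)
 (Net.cons 4 (nat_lit 0x4)
 Net.nil)))))

noncomputable def MuH2_lb_n_8 : Net :=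
 (Net.cons 1 (nat_lit 0x11)
 Net.nil)

noncomputable def MuH2_lb_n_64 : Net :=
 (Net.cons 2 (nat_lit 0x20)
 (Net.cons 1 (nat_lit 0x40)
 (Net.cons 2 (nat_lit 0x22)
 Net.nil)))

noncomputable def MuH2_lb_n_65 : Net :=
 (Net.cons 1 (nat_lit 0x14)
 Net.nil)

noncomputable def MuH2_lb_n_66 : Net :=
 (Net.cons 4 (nat_lit 0xc)
 (Net.cons 2 (nat_lit 0x30)
 (Net.cons 4 (nat_lit 0xc)
 Net.nil)))

noncomputable def MuH2_lb_n : List Net := (apd [Net.nil,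
 MuH2_lb_n_1,
 Net.rev MuH2_lb_n_1,
 Net.nil,
 MuH2_lb_n_4,
 Net.nil,
 Net.nil,
 Net.nil,
 MuH2_lb_n_8,
 Net.nil,
 Net.nil,
 Net.nil,
 Net.nil,
 Net.nil,
 Net.nil,
 Net.nil,
 Net.nil,
 Net.nil,
 Net.nil,
 Net.nil,
 Net.nil,
 Net.nil,
 Net.nil,
 Net.nil,
 Net.nil,
 Net.nil,
 Net.nil,
 Net.nil,
 Net.nil,
 Net.nil,
 Net.nil,
 Net.nil,
 Net.nil,
 Net.nil,
 Net.nil,
 Net.nil,
 Net.nil,
 Net.nil,
 Net.nil,
 Net.nil]
 [Net.nil,
 Net.nil,
 Net.nil,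
 Net.nil,
 Net.nil,
 Net.nil,
 Net.nil,
 Net.nil,
 Net.nil,
 Net.nil,
 Net.nil,
 Net.nil,
 Net.nil,
 Net.nil,
 Net.nil,
 Net.nil,
 Net.nil,
 Net.nil,
 Net.nil,
 Net.nil,
 Net.nil,
 Net.nil,
 Net.nil,
 Net.nil,
 MuH2_lb_n_64,
 MuH2_lb_n_65,
 MuH2_lb_n_66])

theorem MuH2_lb_n_ok : NetsOK 8 MuH2_lb_n := netsOK_of (by decide +kernel)

theorem MuH2_lb : 168 ≤ Nat.card (cl (gp nets) [1,2,4,8]) :=
  lb_of_itwB (k := 3) (n := 7) nets_ok MuH2_lb_n_ok (by norm_num) (by norm_num) (tbA_pt nets_ok) (tbA_pt MuH2_lb_n_ok) (φ := look2 (nat_lit 0x4c000560004e00054000510005000001) 20 64) (by decide +kernel) (by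
    rw [← cl_eq_of_slpB (k := 3) (D := [(64,[8,1,8,2,8]),
 (65,[2,64]),
 (66,[2,4,1])]) MuH2_lb_n_ok (by norm_num) (by decide +kernel)]
    exact lb_of_chainB MuH2_lb_n_ok (C := [([1,2,4,64,65,66],[8,1,1,4,1],0,0,7),
 ([65,66],[1,1,4,1],1,1,6),
 ([],[65,66],2,2,4)]) (by decide +kernel))

theorem MuH3_3_ord : Ord.{u} iv MuH3_3_R [1,2] 3 :=
  (MuH3_3_idx.ord_base).of_cons (cons_of_subset (by decide +kernel))

theorem MuH3_2_ord : Ord.{u} iv MuH3_2_R [1,2,8] 24 :=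
  (MuH3_2_idx.ord_step MuH3_3_ord).of_cons (cons_of_subset (by decide +kernel))

theorem MuH3_1_ord : Ord.{u} iv MuH3_1_R [1,2,4,8] 168 :=
  (MuH3_1_idx.ord_step MuH3_2_ord).of_cons (cons_of_subset (by decide +kernel))

theorem MuH3_0_ord : Ord.{u} iv MuH3_0_R [1,2,3,4,8] 1344 :=
  (MuH3_0_idx.ord_step MuH3_1_ord).of_cons (cons_of_subset (by decide +kernel))

noncomputable def MuH3_lb_n_1 : Net :=
 (Net.cons 4 (nat_lit 0x8)
 (Net.cons 2 (nat_lit 0x20)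
 (Net.cons 1 (nat_lit 0x11)
 (Net.cons 2 (nat_lit 0x1)
 (Net.cons 4 (nat_lit 0x8)
 Net.nil)))))

noncomputable def MuH3_lb_n_3 : Net :=
 (Net.cons 4 (nat_lit 0x8)
 (Net.cons 1 (nat_lit 0x50)
 (Net.cons 2 (nat_lit 0x33)
 (Net.cons 4 (nat_lit 0x8)
 Net.nil))))

noncomputable def MuH3_lb_n_4 : Net :=
 (Net.cons 4 (nat_lit 0x8)
 (Net.cons 2 (nat_lit 0x30)
 (Net.cons 4 (nat_lit 0x8)
 Net.nil)))

noncomputable def MuH3_lb_n_8 : Net :=
 (Net.cons 4 (nat_lit 0x4)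
 (Net.cons 2 (nat_lit 0x2)
 (Net.cons 1 (nat_lit 0x1)
 (Net.cons 2 (nat_lit 0x12)
 (Net.cons 4 (nat_lit 0x4)
 Net.nil)))))

noncomputable def MuH3_lb_n_64 : Net :=
 (Net.cons 2 (nat_lit 0x22)
 (Net.cons 1 (nat_lit 0x14)
 (Net.cons 2 (nat_lit 0x20)
 (Net.cons 4 (nat_lit 0xe)
 Net.nil))))

noncomputable def MuH3_lb_n_66 : Net :=
 (Net.cons 4 (nat_lit 0x4)
 (Net.cons 1 (nat_lit 0x50)
 (Net.cons 2 (nat_lit 0x30)
 (Net.cons 4 (nat_lit 0x8)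
 Net.nil))))

noncomputable def MuH3_lb_n_68 : Net :=
 (Net.cons 4 (nat_lit 0x8)
 (Net.cons 1 (nat_lit 0x50)
 (Net.cons 4 (nat_lit 0x8)
 Net.nil)))

noncomputable def MuH3_lb_n : List Net := (apd [Net.nil,
 MuH3_lb_n_1,
 Net.rev MuH3_lb_n_1,
 MuH3_lb_n_3,
 MuH3_lb_n_4,
 Net.nil,
 Net.nil,
 Net.nil,
 MuH3_lb_n_8,
 Net.nil,
 Net.nil,
 Net.nil,
 Net.nil,
 Net.nil,
 Net.nil,
 Net.nil,
 Net.nil,
 Net.nil,
 Net.nil,
 Net.nil,
 Net.nil,
 Net.nil,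
 Net.nil,
 Net.nil,
 Net.nil,
 Net.nil,
 Net.nil,
 Net.nil,
 Net.nil,
 Net.nil,
 Net.nil,
 Net.nil,
 Net.nil,
 Net.nil,
 Net.nil,
 Net.nil,
 Net.nil,
 Net.nil,
 Net.nil,
 Net.nil]
 [Net.nil,
 Net.nil,
 Net.nil,
 Net.nil,
 Net.nil,
 Net.nil,
 Net.nil,
 Net.nil,
 Net.nil,
 Net.nil,
 Net.nil,
 Net.nil,
 Net.nil,
 Net.nil,
 Net.nil,
 Net.nil,
 Net.nil,
 Net.nil,
 Net.nil,
 Net.nil,
 Net.nil,
 Net.nil,
 Net.nil,
 Net.nil,
 MuH3_lb_n_64,
 Net.rev MuH3_lb_n_64,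
 MuH3_lb_n_66,
 Net.rev MuH3_lb_n_66,
 MuH3_lb_n_68])

theorem MuH3_lb_n_ok : NetsOK 8 MuH3_lb_n := netsOK_of (by decide +kernel)

theorem MuH3_lb : 1344 ≤ Nat.card (cl (gp nets) [1,2,3,4,8]) :=
  lb_of_itwB (k := 3) (n := 8) nets_ok MuH3_lb_n_ok (by norm_num) (by norm_num) (tbA_pt nets_ok) (tbA_pt MuH3_lb_n_ok) (φ := look2 (nat_lit 0x1a0002c0002d0002f0002e000190001b00018) 20 64) (by decide +kernel) (by
    rw [← cl_eq_of_slpB (k := 3) (D := [(64,[2,8,4,3,1,8]),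
 (65,[8,2,3,4,8,1]),
 (66,[65,4,64,64]),
 (67,[65,65,4,64]),
 (68,[67,4,66,4,67])]) MuH3_lb_n_ok (by norm_num) (by decide +kernel)]
    exact lb_of_chainB MuH3_lb_n_ok (C := [([4,64,65,66,67,68],[1,8,1,3],0,0,8),
 ([4,66,67,68],[64,4,66,64],1,1,7),
 ([4,68],[66,4,66,4],2,2,6),
 ([],[4,68],3,3,4)]) (by decide +kernel))

theorem Mu_mb : MB (cl (gp nets) L) 4620 2 :=
  mb_cyc (w := 33) (n := 37) (La := L) (ix := nth 0 [0,0,0,0,1,7,13,19,27]) (by norm_num) (by norm_num) (nets_iv.sval _) (nets_rel.sval fun r hr x hx => mem_cl (sub_of_allR (by decide +kernel) r hr x hx)) (by decide +kernel)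
    (TStep.trans (TStep.trans (TStep.trans (TStep.trans (TStep.trans (TStep.trans (TStep.trans (TStep.trans (TStep.trans (TStep.trans (TStep.trans (TStep.trans (TStep.trans (TStep.trans (TStep.trans (TStep.trans (TStep.trans (TStep.trans (TStep.trans (TStep.trans (TStep.repar (k' := 30) (by norm_num) (by norm_num) (by decide +kernel) (by decide +kernel) Mu1_b)
    (TStep.enum0 (by norm_num) (by norm_num) Mu2_0 (Gs := Mu2G) (by decide +kernel)))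
    (TStep.repar (k' := 29) (by norm_num) (by norm_num) (by decide +kernel) (by decide +kernel) Mu3_b))
    (TStep.enum0 (by norm_num) (by norm_num) Mu4_0 (Gs := Mu4G) (by decide +kernel)))
    (TStep.repar (k' := 25) (by norm_num) (by norm_num) (by decide +kernel) (by decide +kernel) Mu5_b))
    (TStep.enum0 (by norm_num) (by norm_num) Mu6_0 (Gs := Mu6G) (by decide +kernel)))
    (TStep.repar (k' := 24) (by norm_num) (by norm_num) (by decide +kernel) (by decide +kernel) Mu7_b))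
    (TStep.enum0 (by norm_num) (by norm_num) Mu8_0 (Gs := Mu8G) (by decide +kernel)))
    (TStep.repar (k' := 22) (by norm_num) (by norm_num) (by decide +kernel) (by decide +kernel) Mu9_b))
    (TStep.enum0 (by norm_num) (by norm_num) Mu10_0 (Gs := Mu10G) (by decide +kernel)))
    (TStep.repar (k' := 17) (by norm_num) (by norm_num) (by decide +kernel) (by decide +kernel) Mu11_b))
    (TStep.enum (by norm_num) (by norm_num) Mu12_0 (I := [0,2,4,36]) (by decide +kernel) (by decide +kernel) MuH0_0_ord (c := 1) (lb_sval (fun _ hx => mem_cl (sub_of_subB (by decide +kernel) _ hx)) MuH0_lb (by norm_num)) (Gs := Mu12G) (by decide +kernel)))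
    (TStep.repar (k' := 5) (by norm_num) (by norm_num) (by decide +kernel) (by decide +kernel) Mu13_b))
    (TStep.enum (by norm_num) (by norm_num) Mu14_0 (I := [0,2,4,7,8,9,36]) (by decide +kernel) (by decide +kernel) MuH1_0_ord (c := 1) (lb_sval (fun _ hx => mem_cl (sub_of_subB (by decide +kernel) _ hx)) MuH1_lb (by norm_num)) (Gs := Mu14G) (by decide +kernel)))
    (TStep.repar (k' := 2) (by norm_num) (by norm_num) (by decide +kernel) (by decide +kernel) Mu15_b))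
    (TStep.repar (k' := 2) (by norm_num) (by norm_num) (by decide +kernel) (by decide +kernel) Mu16_b))
    (TStep.enum (by norm_num) (by norm_num) Mu17_0 (I := [1,2,5,27,30,32,34,36]) (by decide +kernel) (by decide +kernel) MuH2_0_ord (c := 1) (lb_sval (fun _ hx => mem_cl (sub_of_subB (by decide +kernel) _ hx)) MuH2_lb (by norm_num)) (Gs := Mu17G) (by decide +kernel)))
    (TStep.repar (k' := 1) (by norm_num) (by norm_num) (by decide +kernel) (by decide +kernel) Mu18_b))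
    (TStep.enum (by norm_num) (by norm_num) Mu19_0 (I := [0,1,2,3,4,5,6,27,28,30,32,34,36]) (by decide +kernel) (by decide +kernel) MuH3_0_ord (c := 1) (lb_sval (fun _ hx => mem_cl (sub_of_subB (by decide +kernel) _ hx)) MuH3_lb (by norm_num)) (Gs := Mu19G) (by decide +kernel)))
    (TStep.repar (k' := 1) (by norm_num) (by norm_num) (by decide +kernel) (by decide +kernel) Mu20_b))
    (TStep.cons (by norm_num) (by norm_num) (c := (nat_lit 0x1)) (v := 2) (by decide +kernel) (by decide +kernel)))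
    (by norm_num) List.mem_cons_self (by norm_num)
    (TStep.repar (k' := 0) (by norm_num) (by norm_num) (by decide +kernel) (by decide +kernel) Mu22_b)
    (L := [1,2,3,4,5,6,7,8]) (I := [0,1,2,3,4,5,6,7,8,9,10,11,12,13,14,15,16,17,18,19,20,21,22,23,24,25,26,27,28,29,30,31,32,33,34,35,36]) (by decide +kernel) (by decide +kernel) ord card.ge (cl_sval_top _ _)

end Cfsg.Lib.Comp.HSx
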