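import Cfsg.Agent.Lib.Comp.HSx.Base

set_option maxRecDepth 100000
set_option Elab.async false

namespace Cfsg.Lib.Comp.HSx

universe u

noncomputable def nets_1 : Net :=
 (Net.cons 64 (nat_lit 0xf000000000000000)
 (Net.cons 32 (nat_lit 0xff0000000000000000000000)
 (Net.cons 16 (nat_lit 0xff000000f000000000000000bf80)
 (Net.cons 8 (nat_lit 0x9000c00024000c00b4007a0000)
 (Net.cons 4 (nat_lit 0x2040000080000000a040a000000)
 (Net.cons 2 (nat_lit 0x2000000002020200022020000020)
 (Net.cons 1 (nat_lit 0x4100000504410450414140544140)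
 (Net.cons 2 (nat_lit 0x2010300010120013110310021230)
 (Net.cons 4 (nat_lit 0x20c00090806000a04080d020000)
 (Net.cons 8 (nat_lit 0x9f00a0005c000d007a00e40000)
 (Net.cons 16 (nat_lit 0xff000000f0000000000000007f80)
 (Net.cons 32 (nat_lit 0xff0000000000000000000000)
 (Net.cons 64 (nat_lit 0xf000000000000000)
 Net.nil)))))))))))))

noncomputable def nets_3 : Net :=
 (Net.cons 64 (nat_lit 0xf000000000000000)
 (Net.cons 32 (nat_lit 0xff0000000000000000000000)
 (Net.cons 16 (nat_lit 0x6a000000f000000000000000ff80)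
 (Net.cons 8 (nat_lit 0x2c00500018000800a4006c0000)
 (Net.cons 4 (nat_lit 0x80008000000000400000a060c060000)
 (Net.cons 2 (nat_lit 0x202000000000200020002200000)
 (Net.cons 1 (nat_lit 0x4004401500000050100544501400500)
 (Net.cons 2 (nat_lit 0x202000022300212002021120000)
 (Net.cons 4 (nat_lit 0x9000802000605040000010101010000)
 (Net.cons 8 (nat_lit 0x2c005000b8000c005b00930000)
 (Net.cons 16 (nat_lit 0x6a000000f000000000000000ff80)
 (Net.cons 32 (nat_lit 0xff0000000000000000000000)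
 (Net.cons 64 (nat_lit 0xf000000000000000)
 Net.nil)))))))))))))

noncomputable def nets_4 : Net :=
 (Net.cons 32 (nat_lit 0xc00000000000000000000000)
 (Net.cons 16 (nat_lit 0xc00000004100000000000000f800)
 (Net.cons 8 (nat_lit 0xc000500040009000c8004400c0)
 (Net.cons 4 (nat_lit 0x80400040a08060e0602080800)
 (Net.cons 2 (nat_lit 0x202202000202020002000000)
 (Net.cons 1 (nat_lit 0x40404404100101545404401540)
 (Net.cons 2 (nat_lit 0x2202202023232201212000300)
 (Net.cons 4 (nat_lit 0x8040f050a0608060e0a0b0800)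
 (Net.cons 8 (nat_lit 0xc00051004d006f0037004400c0)
 (Net.cons 16 (nat_lit 0xc00000005001000000000000f800)
 (Net.cons 32 (nat_lit 0xc00000000000000000000000)
 Net.nil)))))))))))

noncomputable def nets_5 : Net :=
 (Net.cons 64 (nat_lit 0xf000000000000000)
 (Net.cons 32 (nat_lit 0xc808c02000000000d0000000)
 (Net.cons 16 (nat_lit 0x1000000031500000f00000000318)
 (Net.cons 8 (nat_lit 0x40008000c400120020001200820000)
 (Net.cons 4 (nat_lit 0x800020004040206020c0008040000)
 (Net.cons 2 (nat_lit 0x20200020020000000020000)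
 (Net.cons 1 (nat_lit 0x400001044401514015450005010500)
 (Net.cons 2 (nat_lit 0x1020120210020320031100120010)
 (Net.cons 4 (nat_lit 0x80800020005040206020c0708060000)
 (Net.cons 8 (nat_lit 0x40008000e4001200200012008200a0)
 (Net.cons 16 (nat_lit 0x1000000031500000f00000000318)
 (Net.cons 32 (nat_lit 0xe808c02400000000d0000000)
 (Net.cons 64 (nat_lit 0xf000000000000000)
 Net.nil)))))))))))))

noncomputable def nets_6 : Net :=
 (Net.cons 64 (nat_lit 0x7babf00000000000)
 (Net.cons 32 (nat_lit 0xff2a0000000000000d040800)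
 (Net.cons 16 (nat_lit 0x30000000f0000000018800009900)
 (Net.cons 8 (nat_lit 0x9000d2009800800064001a0000)
 (Net.cons 4 (nat_lit 0x40000060c0000020c000c0200000000)
 (Net.cons 2 (nat_lit 0x22002200000000200000000002200)
 (Net.cons 1 (nat_lit 0x5014001101100104104401001004410)
 (Net.cons 2 (nat_lit 0x30022032210033010200010100022200)
 (Net.cons 4 (nat_lit 0x40000060e0f05020c000e0208010604)
 (Net.cons 8 (nat_lit 0x9000d20098008c0064001e0000)
 (Net.cons 16 (nat_lit 0x30000000f0000000098c00009900)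
 (Net.cons 32 (nat_lit 0xffaa0000000000000d040800)
 (Net.cons 64 (nat_lit 0x7babf00000000000)
 Net.nil)))))))))))))

noncomputable def nets_7 : Net :=
 (Net.cons 64 (nat_lit 0xca1662657000000)
 (Net.cons 32 (nat_lit 0x5ca840a00000000002000000)
 (Net.cons 16 (nat_lit 0x30020000c5380000d21c00001020)
 (Net.cons 8 (nat_lit 0x80090008400400080004400420026)
 (Net.cons 4 (nat_lit 0x804040c0000020a00000a000800)
 (Net.cons 2 (nat_lit 0x20000020202000000000220200000022)
 (Net.cons 1 (nat_lit 0x44010040444400100154110114500144)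
 (Net.cons 2 (nat_lit 0x20000220020210000030221200002022)
 (Net.cons 4 (nat_lit 0xc05020b0000020a0d000b000d00)
 (Net.cons 8 (nat_lit 0x80090000a004700800046004200a6)
 (Net.cons 16 (nat_lit 0x30020000c5380000d21c00000122)
 (Net.cons 32 (nat_lit 0x5ca840a00000000002000000)
 (Net.cons 64 (nat_lit 0xca1662657000000)
 Net.nil)))))))))))))

noncomputable def nets_8 : Net :=
 (Net.cons 64 (nat_lit 0x600102c14cc15800)
 (Net.cons 32 (nat_lit 0x408000c80000000042626390)
 (Net.cons 16 (nat_lit 0x20000000715000005588000042e2)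
 (Net.cons 8 (nat_lit 0xa00080006000aa007c00900052)
 (Net.cons 4 (nat_lit 0x8080200080c020408020a00000200)
 (Net.cons 2 (nat_lit 0x20000000000002020000000000000)
 (Net.cons 1 (nat_lit 0x10005000404014110055100015001)
 (Net.cons 2 (nat_lit 0x20200000020002022233011303100)
 (Net.cons 4 (nat_lit 0x80802000c090e0c08020a05000208)
 (Net.cons 8 (nat_lit 0xa00091002400ee007800980052)
 (Net.cons 16 (nat_lit 0x20000000f3140000d3ac000042e2)
 (Net.cons 32 (nat_lit 0x408000ca0000000042626390)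
 (Net.cons 64 (nat_lit 0x600102c14cc15800)
 Net.nil)))))))))))))

noncomputable def nets_64 : Net :=
 (Net.cons 32 (nat_lit 0xc00000000000000000000000)
 (Net.cons 16 (nat_lit 0xc000000080000000000000007b00)
 (Net.cons 8 (nat_lit 0xc000f00092007c004000a20000)
 (Net.cons 4 (nat_lit 0xa0c0000040400040400000000)
 (Net.cons 2 (nat_lit 0x20022200200002202000200020)
 (Net.cons 1 (nat_lit 0x44541155405144411514154440)
 (Net.cons 2 (nat_lit 0x1310122332321031113122230)
 (Net.cons 4 (nat_lit 0x60a0908020a00080901080000)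
 (Net.cons 8 (nat_lit 0xc000e800c900ba008000c90000)
 (Net.cons 16 (nat_lit 0xc00000008000000000000000bd00)
 (Net.cons 32 (nat_lit 0xc00000000000000000000000)
 Net.nil)))))))))))

noncomputable def nets : List Net := (apd [Net.nil,
 nets_1,
 Net.rev nets_1,
 nets_3,
 nets_4,
 nets_5,
 nets_6,
 nets_7,
 nets_8,
 Net.nil,
 Net.nil,
 Net.nil,
 Net.nil,
 Net.nil,
 Net.nil,
 Net.nil,
 Net.nil,
 Net.nil,
 Net.nil,
 Net.nil,
 Net.nil,
 Net.nil,
 Net.nil,
 Net.nil,
 Net.nil,
 Net.nil,
 Net.nil,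
 Net.nil,
 Net.nil,
 Net.nil,
 Net.nil,
 Net.nil,
 Net.nil,
 Net.nil,
 Net.nil,
 Net.nil,
 Net.nil,
 Net.nil,
 Net.nil,
 Net.nil]
 [Net.nil,
 Net.nil,
 Net.nil,
 Net.nil,
 Net.nil,
 Net.nil,
 Net.nil,
 Net.nil,
 Net.nil,
 Net.nil,
 Net.nil,
 Net.nil,
 Net.nil,
 Net.nil,
 Net.nil,
 Net.nil,
 Net.nil,
 Net.nil,
 Net.nil,
 Net.nil,
 Net.nil,
 Net.nil,
 Net.nil,
 Net.nil,
 nets_64,
 Net.rev nets_64])

theorem nets_ok : NetsOK 128 nets := netsOK_of (by decide +kernel)

theorem nets_rel : Rels (gp nets) R := rels_of_relsB (k := 7) nets_ok (by norm_num) (by decide +kernel)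

theorem nets_iv : IvOK (gp nets) iv := ivOK_of_ivB (k := 7) nets_ok (by norm_num) (by decide +kernel)

noncomputable def slp : List (ℕ × List ℕ) := [(64,[3,4,1,4]),
 (65,[4,2,4,3])]

theorem slp_ok : slpB 128 7 nets slp L = true := by decide +kernel

theorem mem_all {x : ℕ} (h : x ∈ L ++ slp.map (·.1)) : gp nets x ∈ cl (gp nets) L :=
  cl_eq_of_slpB nets_ok (by norm_num) slp_ok ▸ mem_cl h

theorem lb : 44352000 ≤ Nat.card (cl (gp nets) L) := by
  rw [← cl_eq_of_slpB nets_ok (by norm_num) slp_ok]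
  exact lb_of_chainB nets_ok (C := [([1,2,3,4,5,6,7,64,65],[8,1,4,6,5,64,7,4,8,6,64,5,6],0,0,100),
 ([1,2,3,4,5,6,64,65],[7,1,3,4,1,5,6],1,1,22),
 ([1,2,3,4,5,64,65],[6,1,5,64,4,1,5],2,2,21),
 ([1,2,3,4,64,65],[5,3,4,1,5,4,1],3,3,20),
 ([64,65],[1,3,4,1,3],60,60,16),
 ([],[64,64],48,48,3)]) (by decide +kernel)

end Cfsg.Lib.Comp.HSx
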